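import Mathlib

/-!
# Two directions, the abstract argument (helper270, S5175 T7b)

`G = V V'` with normal abelian self-centralizing subgroups; a `Side` of `V` and a `Side` of `V'` which do not commute.
`two_sides` : there is `1 ≠ u ∈ V ∩ V'` in `C ∩ C'`, and `[w, w'] ∉ C, C'` for some `w ∈ W`, `w' ∈ W'`.
-/

set_option autoImplicit false

namespace Cfsg.Agent.H270.HM

open Subgroup
open scoped commutatorElement

/-- one block: `W = [V, E]`, `C = C(E)`, `A / V` moves `W`, `B` centralizes `W` -/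
structure Side {G : Type*} [Group G] (V W A B C : Subgroup G) (q : ℕ) : Prop where
  WV : W ≤ V
  VA : V ≤ A
  VB : V ≤ B
  AB : A ⊔ B = ⊤
  Ai : V.relIndex A = q
  Bi : B.index = q
  comm : ∀ w ∈ W, ∀ b ∈ B, w * b = b * w
  EB : ∀ v ∈ V, ∀ b ∈ B, ⁅v, b⁆ ∈ C
  Aa : ∀ a ∈ A, a ∉ V → V ≤ W ⊔ (V ⊓ centralizer {a})
  Aq : ∀ a ∈ A, a ∉ V → (V ⊓ centralizer {a}).relIndex V = q
  wa : ∀ w ∈ W, w ∉ center G → ∀ a ∈ A, a ∉ V → ⁅w, a⁆ ∉ C

/-- the ambient group -/
structure Amb {G : Type*} [Group G] (V V' : Subgroup G) : Prop where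
  Vn : V.Normal
  Vn' : V'.Normal
  ab : ∀ a ∈ V, ∀ b ∈ V, a * b = b * a
  ab' : ∀ a ∈ V', ∀ b ∈ V', a * b = b * a
  sup : V ⊔ V' = ⊤
  cen : ∀ g, (∀ v ∈ V, v * g = g * v) → g ∈ V
  cen' : ∀ g, (∀ v ∈ V', v * g = g * v) → g ∈ V'

variable {G : Type*} [Group G] {V V' : Subgroup G}

namespace Amb

theorem symm (h : Amb V V') : Amb V' V :=
  ⟨h.Vn', h.Vn, h.ab', h.ab, by rw [sup_comm]; exact h.sup, h.cen', h.cen⟩

theorem exists_mul (h : Amb V V') (g : G) : ∃ v ∈ V, ∃ u ∈ V', v * u = g := by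
  have := h.Vn'
  have h1 : g ∈ V ⊔ V' := by rw [h.sup]; trivial
  exact mem_sup_of_normal_right.1 h1

theorem inf_le_center (h : Amb V V') : V ⊓ V' ≤ center G := by
  rintro z ⟨h1, h2⟩
  rw [mem_center_iff]
  intro g
  obtain ⟨v, hv, u, hu, rfl⟩ := h.exists_mul g
  rw [mul_assoc, h.ab' u hu z h2, ← mul_assoc, h.ab v hv z h1, mul_assoc]

theorem center_le (h : Amb V V') : center G ≤ V := fun _ hz =>
  h.cen _ fun v _ => (mem_center_iff.1 hz v)

theorem center_eq (h : Amb V V') : center G = V ⊓ V' :=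
  le_antisymm (le_inf h.center_le h.symm.center_le) h.inf_le_center

theorem comm_center_left (h : Amb V V') {v : G} (hv : v ∈ V) (t : G) : ⁅v, t⁆ ∈ center G := by
  obtain ⟨x, hx, y, hy, rfl⟩ := h.exists_mul t
  have h1 : ⁅v, y⁆ ∈ V ⊓ V' := by
    refine mem_inf.2 ⟨?_, ?_⟩
    · have : ⁅v, y⁆ = v * (y * v⁻¹ * y⁻¹) := by rw [commutatorElement_def]; group
      rw [this]
      exact mul_mem hv (h.Vn.conj_mem _ (inv_mem hv) y)
    · rw [commutatorElement_def]
      exact mul_mem (h.Vn'.conj_mem y hy v) (inv_mem hy)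
  have h2 : ⁅v, x * y⁆ = ⁅v, y⁆ := by
    have e1 : v * x = x * v := h.ab v hv x hx
    calc ⁅v, x * y⁆ = (v * x) * y * v⁻¹ * y⁻¹ * x⁻¹ := by rw [commutatorElement_def]; group
      _ = (x * v) * y * v⁻¹ * y⁻¹ * x⁻¹ := by rw [e1]
      _ = x * ⁅v, y⁆ * x⁻¹ := by rw [commutatorElement_def]; group
      _ = ⁅v, y⁆ := by rw [mem_center_iff.1 (h.inf_le_center h1) x, mul_inv_cancel_right]
  rw [h2]
  exact h.inf_le_center h1

theorem comm_center (h : Amb V V') (s t : G) : ⁅s, t⁆ ∈ center G := by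
  obtain ⟨x, hx, y, hy, rfl⟩ := h.exists_mul s
  have h1 : ⁅x * y, t⁆ = x * ⁅y, t⁆ * x⁻¹ * ⁅x, t⁆ := by
    rw [commutatorElement_def, commutatorElement_def, commutatorElement_def]; group
  rw [h1]
  exact mul_mem (Subgroup.Normal.conj_mem inferInstance _ (h.symm.comm_center_left hy t) x)
    (h.comm_center_left hx t)

theorem mul_left (h : Amb V V') (s s' t : G) : ⁅s * s', t⁆ = ⁅s, t⁆ * ⁅s', t⁆ := by
  have h1 : ⁅s * s', t⁆ = s * ⁅s', t⁆ * s⁻¹ * ⁅s, t⁆ := by
    rw [commutatorElement_def, commutatorElement_def, commutatorElement_def]; group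
  rw [h1, mem_center_iff.1 (h.comm_center s' t) s, mul_inv_cancel_right,
    mem_center_iff.1 (h.comm_center s t) ⁅s', t⁆]

theorem mul_right (h : Amb V V') (s t t' : G) : ⁅s, t * t'⁆ = ⁅s, t⁆ * ⁅s, t'⁆ := by
  have h1 : ⁅s, t * t'⁆ = ⁅s, t⁆ * (t * ⁅s, t'⁆ * t⁻¹) := by
    rw [commutatorElement_def, commutatorElement_def, commutatorElement_def]; group
  rw [h1, mem_center_iff.1 (h.comm_center s t') t, mul_inv_cancel_right]

/-- the subgroups above the center are normal -/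
theorem normal_of_le (h : Amb V V') {X : Subgroup G} (hX : center G ≤ X) : X.Normal := by
  refine ⟨fun x hx g => ?_⟩
  have h1 : g * x * g⁻¹ = ⁅g, x⁆ * x := by rw [commutatorElement_def]; group
  rw [h1]
  exact mul_mem (hX (h.comm_center g x)) hx

end Amb

theorem comm_one_iff {a b : G} : ⁅a, b⁆ = 1 ↔ a * b = b * a := commutatorElement_eq_one_iff_mul_comm

theorem mem_cs_iff {a b : G} : b ∈ centralizer ({a} : Set G) ↔ ⁅b, a⁆ = 1 := by
  rw [mem_centralizer_singleton_iff, comm_one_iff]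

section

variable {W A B C W' A' B' C' : Subgroup G} {q : ℕ}

/-- `C_V(a) = V ∩ B'` for `a ∈ W'` -/
theorem index_of (h : Amb V V') (s' : Side V' W' A' B' C' q) {a : G} (ha : a ∈ W') (hz : a ∉ center G) :
    (V ⊓ centralizer {a}).relIndex V = q := by
  have hBn : B'.Normal := h.normal_of_le (h.symm.center_le.trans s'.VB)
  have h1 : V ⊓ centralizer {a} = V ⊓ B' := by
    ext v
    constructor
    · rintro ⟨hv, hc⟩
      refine ⟨hv, ?_⟩
      have h2 : v ∈ A' ⊔ B' := by rw [s'.AB]; trivial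
      obtain ⟨x, hx, y, hy, rfl⟩ := mem_sup_of_normal_right.1 h2
      by_cases hxV : x ∈ V'
      · exact mul_mem (s'.VB hxV) hy
      · exfalso
        apply s'.wa a ha hz x hx hxV
        have h3 : ⁅a, x * y⁆ = 1 := by
          rw [comm_one_iff]; exact (mem_centralizer_singleton_iff.1 hc).symm
        rw [h.mul_right, comm_one_iff.2 (s'.comm a ha y hy), mul_one] at h3
        rw [h3]
        exact one_mem _
    · rintro ⟨hv, hb⟩
      exact ⟨hv, mem_centralizer_singleton_iff.2 (s'.comm a ha v hb).symm⟩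
  have h2 : V ⊔ B' = ⊤ := by
    rw [eq_top_iff, ← h.sup]
    exact sup_le_sup_left s'.VB _
  rw [h1, inf_comm, inf_relIndex_right, ← relIndex_sup_right, h2, relIndex_top_right, s'.Bi]

variable [Finite G]

/-- `W' ⊆ A ∪ B` -/
theorem mem_or (h : Amb V V') (s : Side V W A B C q) (s' : Side V' W' A' B' C' q) {a : G} (ha : a ∈ W') :
    a ∈ A ∨ a ∈ B := by
  by_cases hz : a ∈ center G
  · exact Or.inl (s.VA (h.center_le hz))
  have hBn : B.Normal := h.normal_of_le (h.center_le.trans s.VB)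
  have h2 : a ∈ A ⊔ B := by rw [s.AB]; trivial
  obtain ⟨x, hx, b, hb, hxb⟩ := mem_sup_of_normal_right.1 h2
  by_cases hxV : x ∈ V
  · right
    rw [← hxb]
    exact mul_mem (s.VB hxV) hb
  by_cases hbV : b ∈ V
  · left
    rw [← hxb]
    exact mul_mem hx (s.VA hbV)
  exfalso
  have hi := index_of h s' ha hz
  have hi' := s.Aq x hx hxV
  have hle : V ⊓ centralizer {a} ≤ V ⊓ centralizer {x} := by
    intro v hvc
    obtain ⟨hv, hc⟩ := mem_inf.1 hvc
    refine mem_inf.2 ⟨hv, ?_⟩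
    rw [mem_cs_iff] at hc ⊢
    rw [← hxb, h.mul_right] at hc
    have h3 : ⁅v, x⁆ ∈ C := by
      rw [eq_inv_of_mul_eq_one_left hc]
      exact inv_mem (s.EB v hv b hb)
    have hn : (V ⊓ centralizer {x}).Normal :=
      h.normal_of_le (le_inf h.center_le fun z hz => mem_centralizer_singleton_iff.2 (mem_center_iff.1 hz x).symm)
    obtain ⟨w, hw, c, hc', hwc⟩ := mem_sup_of_normal_right.1 (s.Aa x hx hxV hv)
    have h4 : ⁅c, x⁆ = 1 := mem_cs_iff.1 hc'.2
    rw [← hwc, h.mul_left, h4, mul_one] at h3 ⊢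
    by_contra h5
    have hwz : w ∉ center G := fun hwz => h5 (comm_one_iff.2 (mem_center_iff.1 hwz x).symm)
    exact s.wa w hw hwz x hx hxV h3
  have heq : V ⊓ centralizer {a} = V ⊓ centralizer {x} := by
    apply le_antisymm hle
    have h3 := relIndex_mul_relIndex _ _ _ hle (inf_le_left : V ⊓ centralizer {x} ≤ V)
    rw [hi, hi'] at h3
    have hq : 0 < q := by
      rw [← hi]
      exact Nat.pos_of_ne_zero Subgroup.FiniteIndex.index_ne_zero
    have h4 : (V ⊓ centralizer {a}).relIndex (V ⊓ centralizer {x}) = 1 := by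
      exact Nat.eq_of_mul_eq_mul_right hq (by rw [h3, one_mul])
    exact relIndex_eq_one.1 h4
  apply hbV
  apply h.cen
  have hn : (V ⊓ centralizer {x}).Normal :=
    h.normal_of_le (le_inf h.center_le fun z hz => mem_centralizer_singleton_iff.2 (mem_center_iff.1 hz x).symm)
  intro v hv
  obtain ⟨w, hw, c, hc, rfl⟩ := mem_sup_of_normal_right.1 (s.Aa x hx hxV hv)
  have h3 : ⁅c, b⁆ = 1 := by
    have h4 := (mem_inf.1 hc).2
    rw [← heq] at hc
    have h5 := (mem_inf.1 hc).2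
    rw [mem_cs_iff] at h4 h5
    rw [← hxb, h.mul_right, h4, one_mul] at h5
    exact h5
  have h4 : ⁅w * c, b⁆ = 1 := by rw [h.mul_left, h3, mul_one, comm_one_iff.2 (s.comm w hw b hb)]
  exact comm_one_iff.1 h4

/-- `W' ≤ A` -/
theorem le_A (h : Amb V V') (s : Side V W A B C q) (s' : Side V' W' A' B' C' q) {w w' : G} (hw : w ∈ W) (hw' : w' ∈ W')
    (hne : ⁅w, w'⁆ ≠ 1) : W' ≤ A := by
  intro x hx
  by_contra hxA
  have hxB : x ∈ B := (mem_or h s s' hx).resolve_left hxA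
  have hwB : w' ∉ B := fun hb => hne (comm_one_iff.2 (s.comm w hw w' hb))
  have hwA : w' ∈ A := (mem_or h s s' hw').resolve_right hwB
  rcases mem_or h s s' (mul_mem hx hw') with h1 | h1
  · exact hxA ((mul_mem_cancel_right hwA).1 h1)
  · exact hwB ((mul_mem_cancel_left hxB).1 h1)

/-- **The two sided argument.** -/
theorem two_sides (h : Amb V V') (s : Side V W A B C q) (s' : Side V' W' A' B' C' q) {w w' : G} (hw : w ∈ W)
    (hw' : w' ∈ W') (hne : ⁅w, w'⁆ ≠ 1) (hB : B ≠ V) :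
    (∃ u : G, u ≠ 1 ∧ u ∈ V ∧ u ∈ V' ∧ u ∈ C ∧ u ∈ C') ∧ ⁅w, w'⁆ ∉ C ∧ ⁅w, w'⁆ ∉ C' := by
  have hW'A : W' ≤ A := le_A h s s' hw hw' hne
  have hne' : ⁅w', w⁆ ≠ 1 := fun h1 => hne (comm_one_iff.2 (comm_one_iff.1 h1).symm)
  have hWA' : W ≤ A' := le_A h.symm s' s hw' hw hne'
  have hwz : w ∉ center G := fun h1 => hne' (comm_one_iff.2 (mem_center_iff.1 h1 w'))
  have hwz' : w' ∉ center G := fun h1 => hne (comm_one_iff.2 (mem_center_iff.1 h1 w))
  have hw'V : w' ∉ V := fun h1 => hne (comm_one_iff.2 (h.ab w (s.WV hw) w' h1))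
  have hwV' : w ∉ V' := fun h1 => hne (comm_one_iff.2 (h.ab' w h1 w' (s'.WV hw')))
  refine ⟨?_, s.wa w hw hwz w' (hW'A hw') hw'V, ?_⟩
  · -- an element of `B ∩ V'` outside `V`
    obtain ⟨b, hb, hbV⟩ : ∃ b ∈ B, b ∉ V := by
      by_contra hcon
      push Not at hcon
      exact hB (le_antisymm hcon s.VB)
    obtain ⟨v₀, hv₀, u, hu, rfl⟩ := h.exists_mul b
    have huB : u ∈ B := (mul_mem_cancel_left (s.VB hv₀)).1 hb
    have huV : u ∉ V := fun h1 => hbV (mul_mem hv₀ h1)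
    obtain ⟨v, hv, hvu⟩ : ∃ v ∈ V, ⁅v, u⁆ ≠ 1 := by
      by_contra hcon
      push Not at hcon
      exact huV (h.cen u fun v hv => comm_one_iff.1 (hcon v hv))
    -- `V ∩ A' = W Z`
    have hzn : (center G).Normal := inferInstance
    have hk : V ⊓ A' ≤ W ⊔ center G := by
      have hcn : (V ⊓ centralizer {w'}).Normal :=
        h.normal_of_le (le_inf h.center_le fun z hz => mem_centralizer_singleton_iff.2 (mem_center_iff.1 hz w').symm)
      have k1 : (center G).relIndex W = q := by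
        have e1 : V = W ⊔ (V ⊓ centralizer {w'}) :=
          le_antisymm (s.Aa w' (hW'A hw') hw'V) (sup_le s.WV inf_le_left)
        have e2 := s.Aq w' (hW'A hw') hw'V
        have e3 : (V ⊓ centralizer {w'}).relIndex V = (V ⊓ centralizer {w'}).relIndex W := by
          have e4 : (V ⊓ centralizer {w'}).relIndex (W ⊔ (V ⊓ centralizer {w'})) = (V ⊓ centralizer {w'}).relIndex W :=
            relIndex_sup_right _ _
          rwa [← e1] at e4
        rw [e3] at e2
        rw [← e2, ← inf_relIndex_right, ← inf_relIndex_right (V ⊓ centralizer {w'})]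
        congr 1
        ext x
        constructor
        · rintro ⟨hx, hxW⟩
          exact ⟨⟨s.WV hxW, mem_centralizer_singleton_iff.2 (mem_center_iff.1 hx w').symm⟩, hxW⟩
        · intro hxx
          obtain ⟨hx', hxW⟩ := mem_inf.1 hxx
          have hx := (mem_inf.1 hx').2
          refine mem_inf.2 ⟨?_, hxW⟩
          by_contra hxz
          apply s.wa x hxW hxz w' (hW'A hw') hw'V
          rw [mem_cs_iff] at hx
          rw [hx]
          exact one_mem _
      have k2 : (center G).relIndex (W ⊔ center G) = q := by rw [relIndex_sup_right, k1]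
      have hVn' := h.Vn'
      have k3 : (V ⊓ A') ⊔ V' = A' := by
        apply le_antisymm (sup_le inf_le_right s'.VA)
        intro x hx
        obtain ⟨x₁, hx₁, x₂, hx₂, rfl⟩ := h.exists_mul x
        exact mul_mem (mem_sup_left ⟨hx₁, (mul_mem_cancel_right (s'.VA hx₂)).1 hx⟩) (mem_sup_right hx₂)
      have k4 : (center G).relIndex (V ⊓ A') = q := by
        rw [← s'.Ai]
        conv_rhs => rw [← k3]
        rw [relIndex_sup_right, ← inf_relIndex_right, ← inf_relIndex_right V', h.center_eq]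
        congr 1
        ext x
        constructor
        · rintro ⟨⟨-, h1⟩, h2⟩
          exact ⟨h1, h2⟩
        · rintro ⟨h1, h2⟩
          exact ⟨⟨h2.1, h1⟩, h2⟩
      have k5 : W ⊔ center G ≤ V ⊓ A' :=
        sup_le (le_inf s.WV hWA') (le_inf h.center_le (h.symm.center_le.trans s'.VA))
      have k6 := relIndex_mul_relIndex _ _ _ (le_sup_right : center G ≤ W ⊔ center G) k5
      rw [k2, k4] at k6
      have hq : 0 < q := by
        rw [← k4]
        exact Nat.pos_of_ne_zero Subgroup.FiniteIndex.index_ne_zero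
      have k7 : (W ⊔ center G).relIndex (V ⊓ A') = 1 :=
        Nat.eq_of_mul_eq_mul_left hq (by rw [k6, mul_one])
      exact relIndex_eq_one.1 k7
    -- `v = v₁ v₂`
    have hBn' : B'.Normal := h.normal_of_le (h.symm.center_le.trans s'.VB)
    have k1 : v ∈ A' ⊔ B' := by rw [s'.AB]; trivial
    obtain ⟨x, hx, y, hy, hxy⟩ := mem_sup_of_normal_right.1 k1
    obtain ⟨x₁, hx₁, x₂, hx₂, rfl⟩ := h.exists_mul x
    have hx₁A : x₁ ∈ A' := (mul_mem_cancel_right (s'.VA hx₂)).1 hx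
    have hv2 : x₂ * y ∈ B' := mul_mem (s'.VB hx₂) hy
    have hvv : v = x₁ * (x₂ * y) := by rw [← hxy, mul_assoc]
    obtain ⟨w₁, hw₁, z, hz, hwz1⟩ := mem_sup_of_normal_right.1 (hk ⟨hx₁, hx₁A⟩)
    have k2 : ⁅x₁, u⁆ = 1 := by
      rw [← hwz1, h.mul_left, comm_one_iff.2 (s.comm w₁ hw₁ u huB), comm_one_iff.2 (mem_center_iff.1 hz u).symm, one_mul]
    have k3 : ⁅v, u⁆ = ⁅x₂ * y, u⁆ := by rw [hvv, h.mul_left, k2, one_mul]
    have k4 := h.comm_center v u
    have k5 := k4
    rw [h.center_eq] at k5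
    refine ⟨⁅v, u⁆, hvu, k5.1, k5.2, s.EB v hv u huB, ?_⟩
    rw [k3, ← commutatorElement_inv]
    exact inv_mem (s'.EB u hu _ hv2)
  · intro h1
    apply s'.wa w' hw' hwz' w (hWA' hw) hwV'
    rw [← commutatorElement_inv]
    exact inv_mem h1

end

end Cfsg.Agent.H270.HM
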