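import Cfsg.Agent.H270.HM.Top

/-!
# S5175 (hub helper756), T7a: `StSwap` (helper270)

`stSwap : StSwap`.
-/

set_option autoImplicit false

namespace Cfsg.Agent.H270.HM

open Cfsg Subgroup Cfsg.Agent.H756.HM
open scoped commutatorElement

universe u

variable {P : Type u} [Group P] [Finite P]

section

variable {T : Sylow 2 P}

local notation "TT" => (T : Subgroup P)
local notation "Wp" => (⁅pCore 2 P, pResidual 2 P⁆ : Subgroup P)
local notation "Wt" => Subgroup.subgroupOf (⁅pCore 2 P, pResidual 2 P⁆ : Subgroup P) (T : Subgroup P)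
local notation "Qt" => Subgroup.subgroupOf (pCore 2 P) (T : Subgroup P)
local notation "Dt" => Subgroup.subgroupOf (pCore 2 P ⊓ centralizer (pResidual 2 P : Set P)) (T : Subgroup P)

/-- `T` and `O²(P)` generate `P` -/
theorem normal_of {D : Subgroup TT} (hD : D.Normal)
    (h : ∀ e ∈ pResidual 2 P, ∀ x ∈ D, e * (x : P) * e⁻¹ ∈ D.map (TT).subtype) : (D.map (TT).subtype).Normal := by
  rw [← Subgroup.normalizer_eq_top_iff, eq_top_iff, ← res_sup T, sup_le_iff]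
  constructor
  · have hmem : ∀ e ∈ pResidual 2 P, ∀ x ∈ D.map (TT).subtype, e * x * e⁻¹ ∈ D.map (TT).subtype := by
      rintro e he _ ⟨x, hx, rfl⟩
      exact h e he x hx
    intro e he
    rw [mem_normalizer_iff]
    intro x
    refine ⟨hmem e he x, fun h1 => ?_⟩
    have h2 := hmem e⁻¹ (inv_mem he) _ h1
    have h3 : e⁻¹ * (e * x * e⁻¹) * e⁻¹⁻¹ = x := by group
    rwa [h3] at h2
  · have hmem : ∀ t ∈ TT, ∀ x ∈ D.map (TT).subtype, t * x * t⁻¹ ∈ D.map (TT).subtype := by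
      rintro t ht _ ⟨x, hx, rfl⟩
      exact ⟨_, hD.conj_mem x hx ⟨t, ht⟩, rfl⟩
    intro t ht
    rw [mem_normalizer_iff]
    intro x
    refine ⟨hmem t ht x, fun h1 => ?_⟩
    have h2 := hmem t⁻¹ (inv_mem ht) _ h1
    have h3 : t⁻¹ * (t * x * t⁻¹) * t⁻¹⁻¹ = x := by group
    rwa [h3] at h2

omit [Finite P] in
/-- the square of `ξ` fixes the normal subgroups of `T` -/
theorem map_sq {ξ : MulAut TT} (hξ : ∃ t : TT, ξ * ξ = MulAut.conj t) {D : Subgroup TT} (hD : D.Normal) :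
    (D.map ξ.toMonoidHom).map ξ.toMonoidHom = D := by
  obtain ⟨t, ht⟩ := hξ
  have h1 : ∀ x, ξ (ξ x) = t * x * t⁻¹ := fun x => by
    have := DFunLike.congr_fun ht x
    rwa [MulAut.mul_apply, MulAut.conj_apply] at this
  ext x
  constructor
  · rintro ⟨_, ⟨w, hw, rfl⟩, rfl⟩
    show ξ (ξ w) ∈ D
    rw [h1]
    exact hD.conj_mem w hw t
  · intro hx
    refine ⟨_, ⟨t⁻¹ * x * t⁻¹⁻¹, hD.conj_mem x hx t⁻¹, rfl⟩, ?_⟩
    show ξ (ξ (t⁻¹ * x * t⁻¹⁻¹)) = x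
    rw [h1]; group

theorem swap_aux (hBW : BW TT) (d : BD TT) {ξ : MulAut TT} (hξ : ∃ t : TT, ξ * ξ = MulAut.conj t)
    (hno : ∀ D : Subgroup TT, D ≠ ⊥ → (D.map (TT).subtype).Normal → D.map ξ.toMonoidHom ≠ D) : Swap TT ξ d := by
  have hWn : (Wt).Normal := by
    have := Wp_normal (P := P)
    exact Subgroup.normal_subgroupOf
  have hQn : (Qt).Normal := by
    have := pc_normal (P := P)
    exact Subgroup.normal_subgroupOf
  have hDn : (Dt).Normal := by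
    have := pc_normal (P := P)
    have := res_normal (P := P)
    exact Subgroup.normal_subgroupOf
  have hWξ : ((Wt).map ξ.toMonoidHom).Normal := hWn.map _ ξ.surjective
  have hQξ : ((Qt).map ξ.toMonoidHom).Normal := hQn.map _ ξ.surjective
  have hDξ : ((Dt).map ξ.toMonoidHom).Normal := hDn.map _ ξ.surjective
  have hWQ : Wt ≤ Qt := fun x hx => Wp_le hx
  -- `W^ξ` is not contained in `Q`
  have h1 : ¬ (Wt).map ξ.toMonoidHom ≤ Qt := by
    intro hle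
    have hQ2 : Wt ⊔ (Wt).map ξ.toMonoidHom ≤ Qt := sup_le hWQ hle
    refine hno (Wt ⊔ (Wt).map ξ.toMonoidHom) ?_ ?_ ?_
    · intro h0
      obtain ⟨Wu, Ta, -, k2, -⟩ := d.coord
      apply k2
      intro w hw
      rw [d.hW] at hw
      have k3 : (⟨w, pc_le T (Wp_le hw)⟩ : TT) ∈ Wt ⊔ (Wt).map ξ.toMonoidHom := mem_sup_left hw
      rw [h0, mem_bot] at k3
      have k4 : w = 1 := congrArg Subtype.val k3
      rw [k4]
      exact one_mem _
    · refine normal_of inferInstance ?_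
      intro e he x hx
      have hxQ : (x : P) ∈ pCore 2 P := hQ2 hx
      obtain ⟨w, hw, k1⟩ := conj_eq hxQ he
      rw [k1]
      exact mul_mem ⟨⟨w, pc_le T (Wp_le hw)⟩, mem_sup_left hw, rfl⟩ ⟨x, hx, rfl⟩
    · rw [Subgroup.map_sup, map_sq hξ hWn, sup_comm]
  have h2 := strong hBW d ξ h1
  -- `Q^ξ ≤ T₀`
  have h3 : (Qt).map ξ.toMonoidHom ≤ d.T0.subgroupOf TT := by
    rintro _ ⟨g, hg, rfl⟩
    refine d.cent _ (ξ g).2 ?_
    intro a ha
    have k1 : (⟨a, d.T0_le ha⟩ : TT) ∈ (Wt).map ξ.toMonoidHom ⊔ Qt := by rw [h2]; exact ha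
    obtain ⟨_, ⟨w, hw, rfl⟩, q, hq, k2⟩ := Subgroup.mem_sup_of_normal_right.1 k1
    have k3 : a = (ξ w : P) * (q : P) := (congrArg Subtype.val k2).symm
    have k4 : w * g = g * w := ((mem_Qt_iff hBW g).1 hg w hw)
    have k5 : ξ w * ξ g = ξ g * ξ w := by rw [← map_mul, k4, map_mul]
    have k6 : ⁅ξ g, ξ w * q⁆ ∈ Qt := by
      have k7 : ⁅ξ g, ξ w * q⁆ = ξ w * ((ξ g * q * (ξ g)⁻¹) * q⁻¹) * (ξ w)⁻¹ := by
        rw [commutatorElement_def, mul_inv_rev]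
        calc ξ g * (ξ w * q) * (ξ g)⁻¹ * (q⁻¹ * (ξ w)⁻¹) = (ξ g * ξ w) * q * (ξ g)⁻¹ * (q⁻¹ * (ξ w)⁻¹) := by group
          _ = _ := by rw [← k5]; group
      rw [k7]
      exact hQn.conj_mem _ (mul_mem (hQn.conj_mem q hq _) (inv_mem hq)) _
    rw [k3]
    exact k6
  have hQT : Qt ≤ d.T0.subgroupOf TT := fun x hx => d.Q_le_T0 hx
  have h4 : Qt ⊔ (Qt).map ξ.toMonoidHom = d.T0.subgroupOf TT := by
    apply le_antisymm (sup_le hQT h3)
    rw [← h2]
    exact sup_le ((Subgroup.map_mono hWQ).trans le_sup_right) le_sup_left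
  have h5 : (d.T0.subgroupOf TT).map ξ.toMonoidHom = d.T0.subgroupOf TT := by
    rw [← h4, Subgroup.map_sup, map_sq hξ hQn, sup_comm]
  have h6 : Wt ⊔ (Qt).map ξ.toMonoidHom = d.T0.subgroupOf TT := by
    rw [← h5, ← h2, Subgroup.map_sup, map_sq hξ hWn]
  -- `Q = W (Q ∩ Q^ξ)`
  have h7 : ∀ a ∈ pCore 2 P, ∃ w ∈ Wp, ∃ g : TT, g ∈ Qt ∧ ξ g ∈ Qt ∧ a = w * (ξ g : P) := by
    intro a ha
    have k1 : (⟨a, pc_le T ha⟩ : TT) ∈ Wt ⊔ (Qt).map ξ.toMonoidHom := by rw [h6]; exact d.Q_le_T0 ha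
    obtain ⟨w, hw, _, ⟨g, hg, rfl⟩, k2⟩ := Subgroup.mem_sup_of_normal_right.1 k1
    refine ⟨w, hw, g, hg, ?_, (congrArg Subtype.val k2).symm⟩
    have k3 : ξ g = w⁻¹ * ⟨a, pc_le T ha⟩ := by
      rw [← k2]
      show ξ g = w⁻¹ * (w * ξ g)
      group
    rw [k3]
    exact mul_mem (inv_mem (hWQ hw)) ha
  -- `D ∩ D^ξ = 1`
  have h8 : Dt ⊓ (Dt).map ξ.toMonoidHom = ⊥ := by
    by_contra h0
    refine hno _ h0 ?_ ?_
    · refine normal_of inferInstance ?_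
      intro e he x hx
      have k1 : e * (x : P) = x * e := mem_centralizer_iff.1 hx.1.2 e he
      rw [k1, mul_inv_cancel_right]
      exact ⟨x, hx, rfl⟩
    · rw [Subgroup.map_inf _ _ _ ξ.injective, map_sq hξ hDn, inf_comm]
  have h9 : ∀ x : TT, ξ x ∈ Dt → x ∈ Dt → ξ x = 1 := by
    intro x k1 k2
    have k3 : ξ x ∈ Dt ⊓ (Dt).map ξ.toMonoidHom := ⟨k1, ⟨x, k2, rfl⟩⟩
    rwa [h8, mem_bot] at k3
  have hcomm : ∀ a ∈ pCore 2 P, ∀ b ∈ pCore 2 P, a * b = b * a := by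
    intro a ha b hb
    obtain ⟨w, hw, g, hg1, hg2, rfl⟩ := h7 a ha
    obtain ⟨v, hv, k, hk1, hk2, rfl⟩ := h7 b hb
    have k1 : ⁅w * (ξ g : P), v * (ξ k : P)⁆ = ⁅(ξ g : P), (ξ k : P)⁆ :=
      commutator_drop (hBW.W_comm w hw _ hg2) (hBW.W_comm w hw v (Wp_le hv)) (hBW.W_comm w hw _ hk2)
        (hBW.W_comm v hv _ hg2) (hBW.W_comm v hv _ hk2)
    have k2 : ξ ⁅g, k⁆ = 1 := by
      apply h9
      · rw [map_commutatorElement]
        have k3 : ⁅ξ g, ξ k⁆ ∈ Qt := by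
          rw [commutatorElement_def]
          exact mul_mem (mul_mem (mul_mem hg2 hk2) (inv_mem hg2)) (inv_mem hk2)
        exact ⟨k3, commutator_mem' hBW hg2 hk2⟩
      · have k3 : ⁅g, k⁆ ∈ Qt := by
          rw [commutatorElement_def]
          exact mul_mem (mul_mem (mul_mem hg1 hk1) (inv_mem hg1)) (inv_mem hk1)
        exact ⟨k3, commutator_mem' hBW hg1 hk1⟩
    rw [map_commutatorElement] at k2
    have k3 : ⁅(ξ g : P), (ξ k : P)⁆ = 1 := congrArg Subtype.val k2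
    rw [k3] at k1
    exact commutatorElement_eq_one_iff_mul_comm.1 k1
  refine ⟨hcomm, ?_, ?_, h4, h8⟩
  · intro a ha
    obtain ⟨w, hw, g, hg1, hg2, rfl⟩ := h7 a ha
    have k2 : ξ (g * g) = 1 := by
      apply h9
      · rw [map_mul]
        exact ⟨mul_mem hg2 hg2, sq_mem hBW hg2⟩
      · exact ⟨mul_mem hg1 hg1, sq_mem hBW hg1⟩
    rw [map_mul] at k2
    have k3 : (ξ g : P) * (ξ g : P) = 1 := congrArg Subtype.val k2
    have k4 : w * (ξ g : P) = (ξ g : P) * w := hBW.W_comm w hw _ hg2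
    have k5 : w * w = 1 := by rw [← pow_two]; exact hBW.W_sq w hw
    calc (w * (ξ g : P)) ^ 2 = w * ((ξ g : P) * w) * (ξ g : P) := by rw [pow_two]; group
      _ = w * (w * (ξ g : P)) * (ξ g : P) := by rw [k4]
      _ = (w * w) * ((ξ g : P) * (ξ g : P)) := by group
      _ = 1 := by rw [k3, k5, one_mul]
  · apply le_antisymm
    · intro t ht
      rw [← hBW.CTW]
      refine ⟨ht.1, ?_⟩
      refine mem_centralizer_iff.2 fun w hw => mem_centralizer_iff.1 ht.2 w (Wp_le hw)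
    · intro t ht
      exact ⟨pc_le T ht, mem_centralizer_iff.2 fun w hw => hcomm w hw t ht⟩

end

/-- **T7a** -/
theorem stSwap : StSwap.{u} := by
  intro P _ _ T hBW d ξ hξ hno
  exact swap_aux hBW d hξ hno

end Cfsg.Agent.H270.HM
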