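import Cfsg.Agent.H270.HM.Swap
import Cfsg.Agent.H270.HM.Sides

/-!
# S5175 (hub helper756), T7b: `StTwoDir` (helper270)
-/

set_option autoImplicit false

namespace Cfsg.Agent.H270.HM

open Cfsg Subgroup Cfsg.Agent.H756.HM
open scoped commutatorElement

universe u

/-! ### transport of a side -/

section Map

variable {G : Type*} [Group G]

theorem map_cs (φ : MulAut G) (V : Subgroup G) (a : G) :
    V.map φ.toMonoidHom ⊓ centralizer {φ a} = (V ⊓ centralizer {a}).map φ.toMonoidHom := by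
  ext x
  constructor
  · intro h
    obtain ⟨⟨v, hv, rfl⟩, hc⟩ := mem_inf.1 h
    refine ⟨v, mem_inf.2 ⟨hv, ?_⟩, rfl⟩
    rw [mem_centralizer_singleton_iff] at hc ⊢
    apply φ.injective
    rw [map_mul, map_mul]
    exact hc
  · rintro ⟨v, h, rfl⟩
    obtain ⟨hv, hc⟩ := mem_inf.1 h
    refine mem_inf.2 ⟨⟨v, hv, rfl⟩, ?_⟩
    rw [mem_centralizer_singleton_iff] at hc ⊢
    show φ v * φ a = φ a * φ v
    rw [← map_mul, hc, map_mul]

theorem Side.map {V W A B C : Subgroup G} {q : ℕ} (s : Side V W A B C q) (φ : MulAut G) :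
    Side (V.map φ.toMonoidHom) (W.map φ.toMonoidHom) (A.map φ.toMonoidHom) (B.map φ.toMonoidHom)
      (C.map φ.toMonoidHom) q where
  WV := map_mono s.WV
  VA := map_mono s.VA
  VB := map_mono s.VB
  AB := by rw [← Subgroup.map_sup, s.AB]; exact map_top_of_surjective _ φ.surjective
  Ai := by rw [relIndex_map_map_of_injective _ _ φ.injective, s.Ai]
  Bi := by
    have h1 : (⊤ : Subgroup G).map φ.toMonoidHom = ⊤ := map_top_of_surjective _ φ.surjective
    rw [← relIndex_top_right, ← h1, relIndex_map_map_of_injective _ _ φ.injective, relIndex_top_right, s.Bi]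
  comm := by
    rintro _ ⟨w, hw, rfl⟩ _ ⟨b, hb, rfl⟩
    show φ w * φ b = φ b * φ w
    rw [← map_mul, s.comm w hw b hb, map_mul]
  EB := by
    rintro _ ⟨w, hw, rfl⟩ _ ⟨b, hb, rfl⟩
    refine ⟨_, s.EB w hw b hb, ?_⟩
    exact map_commutatorElement φ.toMonoidHom w b
  Aa := by
    rintro _ ⟨a, ha, rfl⟩ haV
    have h1 : a ∉ V := fun h => haV ⟨a, h, rfl⟩
    have h2 := map_mono (f := φ.toMonoidHom) (s.Aa a ha h1)
    rw [Subgroup.map_sup, ← map_cs] at h2
    exact h2
  Aq := by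
    rintro _ ⟨a, ha, rfl⟩ haV
    have h1 : a ∉ V := fun h => haV ⟨a, h, rfl⟩
    have h2 := s.Aq a ha h1
    rw [← relIndex_map_map_of_injective (f := φ.toMonoidHom) _ _ φ.injective, ← map_cs] at h2
    exact h2
  wa := by
    rintro _ ⟨w, hw, rfl⟩ hwz _ ⟨a, ha, rfl⟩ haV hc
    have h1 : a ∉ V := fun h => haV ⟨a, h, rfl⟩
    refine s.wa w hw ?_ a ha h1 ?_
    · intro hz
      apply hwz
      rw [mem_center_iff] at hz ⊢
      intro g
      have h2 := hz (φ.symm g)
      have h3 := congrArg φ h2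
      rw [map_mul, map_mul, φ.apply_symm_apply] at h3
      exact h3
    · obtain ⟨c, hc, h2⟩ := hc
      have h3 : φ ⁅w, a⁆ = φ c := by
        rw [map_commutatorElement]
        exact h2.symm
      rw [φ.injective h3]
      exact hc

theorem amb_map {V : Subgroup G} (φ : MulAut G) (hn : V.Normal) (hab : ∀ a ∈ V, ∀ b ∈ V, a * b = b * a)
    (hsup : V ⊔ V.map φ.toMonoidHom = ⊤) (hcen : ∀ g, (∀ v ∈ V, v * g = g * v) → g ∈ V) :
    Amb V (V.map φ.toMonoidHom) where
  Vn := hn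
  Vn' := hn.map _ φ.surjective
  ab := hab
  ab' := by
    rintro _ ⟨a, ha, rfl⟩ _ ⟨b, hb, rfl⟩
    show φ a * φ b = φ b * φ a
    rw [← map_mul, hab a ha b hb, map_mul]
  sup := hsup
  cen := hcen
  cen' := by
    intro g hg
    refine ⟨φ.symm g, hcen _ fun v hv => ?_, φ.apply_symm_apply g⟩
    apply φ.injective
    rw [map_mul, map_mul, φ.apply_symm_apply]
    exact hg _ ⟨v, hv, rfl⟩

end Map

variable {P : Type u} [Group P] [Finite P] {T : Sylow 2 P}

local notation "TT" => (T : Subgroup P)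
local notation "Wp" => (⁅pCore 2 P, pResidual 2 P⁆ : Subgroup P)
local notation "Wt" => Subgroup.subgroupOf (⁅pCore 2 P, pResidual 2 P⁆ : Subgroup P) (T : Subgroup P)
local notation "Qt" => Subgroup.subgroupOf (pCore 2 P) (T : Subgroup P)

omit [Finite P] in
theorem bw_of (d : BD TT) : BW TT where
  W_comm := by
    intro w hw
    rw [← d.hW] at hw
    exact d.W_comm w hw
  W_sq := by
    intro w hw
    rw [← d.hW] at hw
    exact d.W_sq w hw
  CTW := by
    rw [← d.hW]
    exact d.CTW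

/-- `W Q^ξ = T₀`, `T₀^ξ = T₀` -/
theorem swap_facts (d : BD TT) {ξ : MulAut TT} (hξ : ∃ t : TT, ξ * ξ = MulAut.conj t) (s : Swap TT ξ d) :
    Wt ⊔ (Qt).map ξ.toMonoidHom = d.T0.subgroupOf TT ∧ (d.T0.subgroupOf TT).map ξ.toMonoidHom = d.T0.subgroupOf TT := by
  have hBW := bw_of d
  have hWn : (Wt).Normal := by
    have := Wp_normal (P := P)
    exact Subgroup.normal_subgroupOf
  have hQn : (Qt).Normal := by
    have := pc_normal (P := P)
    exact Subgroup.normal_subgroupOf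
  have h1 : ¬ (Wt).map ξ.toMonoidHom ≤ Qt := by
    intro hle
    have k1 : Qt ≤ (Qt).map ξ.toMonoidHom := by
      intro g hg
      refine ⟨ξ.symm g, ?_, ξ.apply_symm_apply g⟩
      rw [SetLike.mem_coe, mem_Qt_iff hBW]
      intro w hw
      apply ξ.injective
      rw [map_mul, map_mul, ξ.apply_symm_apply]
      exact Subtype.ext (s.comm _ (hle ⟨w, hw, rfl⟩) _ hg)
    have k2 : (Qt).map ξ.toMonoidHom ≤ Qt := by
      have := map_mono (f := ξ.toMonoidHom) k1
      rwa [map_sq hξ hQn] at this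
    apply d.T0_ne
    have k3 := s.T0
    rw [sup_eq_left.2 k2] at k3
    have k4 := congrArg (Subgroup.map (TT).subtype) k3
    rw [map_Qt, Subgroup.subgroupOf_map_subtype, inf_eq_left.2 d.T0_le] at k4
    exact k4.symm
  have h2 := strong hBW d ξ h1
  have h5 : (d.T0.subgroupOf TT).map ξ.toMonoidHom = d.T0.subgroupOf TT := by
    rw [← s.T0, Subgroup.map_sup, map_sq hξ hQn, sup_comm]
  refine ⟨?_, h5⟩
  conv_rhs => rw [← h5]
  rw [← h2, Subgroup.map_sup, map_sq hξ hWn]

/-- the inclusion of `T₀` -/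
def jj (d : BD TT) : ↥(d.T0.subgroupOf TT) →* P := (TT).subtype.comp (d.T0.subgroupOf TT).subtype

omit [Finite P] in
theorem jj_injective (d : BD TT) : Function.Injective (jj d) := fun _ _ h =>
  Subtype.ext (Subtype.ext h)

omit [Finite P] in
theorem jj_range (d : BD TT) : (jj d).range = d.T0 := by
  ext x
  constructor
  · rintro ⟨g, rfl⟩
    exact g.2
  · intro hx
    exact ⟨⟨⟨x, d.T0_le hx⟩, hx⟩, rfl⟩

omit [Finite P] in
theorem jj_relIndex (d : BD TT) {H K : Subgroup P} (hK : K ≤ d.T0) :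
    (H.comap (jj d)).relIndex (K.comap (jj d)) = H.relIndex K := by
  rw [relIndex_comap, map_comap_eq, jj_range, inf_eq_right.2 hK]

/-- the restriction of `ξ` to `T₀` -/
noncomputable def xi0 (d : BD TT) (ξ : MulAut TT) (h : (d.T0.subgroupOf TT).map ξ.toMonoidHom = d.T0.subgroupOf TT) :
    MulAut ↥(d.T0.subgroupOf TT) :=
  (ξ.subgroupMap (d.T0.subgroupOf TT)).trans (MulEquiv.subgroupCongr h)

omit [Finite P] in
theorem xi0_coe (d : BD TT) (ξ : MulAut TT) (h : (d.T0.subgroupOf TT).map ξ.toMonoidHom = d.T0.subgroupOf TT)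
    (g : ↥(d.T0.subgroupOf TT)) : ((xi0 d ξ h g : ↥(d.T0.subgroupOf TT)) : TT) = ξ g := rfl

section Main

variable (d : BD (T : Subgroup P)) {ξ : MulAut ↥(T : Subgroup P)}
  (hξ : ∃ t : ↥(T : Subgroup P), ξ * ξ = MulAut.conj t) (s : Swap (T : Subgroup P) ξ d)

include hξ s

theorem amb : Amb ((pCore 2 P).comap (jj d))
    (((pCore 2 P).comap (jj d)).map (xi0 d ξ (swap_facts d hξ s).2).toMonoidHom) := by
  have hQn : (pCore 2 P).Normal := pc_normal (P := P)
  refine amb_map _ (hQn.comap _) ?_ ?_ ?_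
  · intro a ha b hb
    exact jj_injective d (s.comm _ ha _ hb)
  · have hQn' : (Qt).Normal := Subgroup.normal_subgroupOf
    have : ((Qt).map ξ.toMonoidHom).Normal := hQn'.map _ ξ.surjective
    rw [eq_top_iff]
    intro g _
    have h1 : (g : TT) ∈ Qt ⊔ (Qt).map ξ.toMonoidHom := by rw [s.T0]; exact g.2
    obtain ⟨v, hv, _, ⟨u, hu, rfl⟩, h2⟩ := mem_sup_of_normal_right.1 h1
    have hv' : v ∈ d.T0.subgroupOf TT := d.Q_le_T0 hv
    have hu' : u ∈ d.T0.subgroupOf TT := d.Q_le_T0 hu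
    have h3 : g = (⟨v, hv'⟩ : ↥(d.T0.subgroupOf TT)) * xi0 d ξ (swap_facts d hξ s).2 ⟨u, hu'⟩ := Subtype.ext h2.symm
    rw [h3]
    exact mul_mem (mem_sup_left hv) (mem_sup_right ⟨⟨u, hu'⟩, hu, rfl⟩)
  · intro g hg
    show ((g : TT) : P) ∈ pCore 2 P
    rw [← s.CT]
    refine mem_inf.2 ⟨(g : TT).2, mem_centralizer_iff.2 fun v hv => ?_⟩
    exact congrArg (jj d) (hg ⟨⟨v, pc_le T hv⟩, d.Q_le_T0 hv⟩ hv)

/-- `Q = W Z` -/
theorem exists_wz (v : ↥(d.T0.subgroupOf TT)) (hv : v ∈ (pCore 2 P).comap (jj d)) :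
    ∃ w ∈ (Wp).comap (jj d), ∃ z ∈ center ↥(d.T0.subgroupOf TT), v = w * z := by
  have hA := amb d hξ s
  have hWn : (Wt).Normal := by
    have := Wp_normal (P := P)
    exact Subgroup.normal_subgroupOf
  have h1 : (v : TT) ∈ Wt ⊔ (Qt).map ξ.toMonoidHom := by rw [(swap_facts d hξ s).1]; exact v.2
  obtain ⟨w, hw, _, ⟨u, hu, rfl⟩, h2⟩ := mem_sup_of_normal_left.1 h1
  have hw' : w ∈ d.T0.subgroupOf TT := d.Q_le_T0 (Wp_le hw)
  have hu' : u ∈ d.T0.subgroupOf TT := d.Q_le_T0 hu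
  have h3 : v = (⟨w, hw'⟩ : ↥(d.T0.subgroupOf TT)) * xi0 d ξ (swap_facts d hξ s).2 ⟨u, hu'⟩ := Subtype.ext h2.symm
  refine ⟨⟨w, hw'⟩, hw, _, ?_, h3⟩
  rw [hA.center_eq]
  refine mem_inf.2 ⟨?_, ⟨⟨u, hu'⟩, hu, rfl⟩⟩
  have h4 : xi0 d ξ (swap_facts d hξ s).2 ⟨u, hu'⟩ = (⟨w, hw'⟩ : ↥(d.T0.subgroupOf TT))⁻¹ * v := by
    rw [h3]; group
  rw [h4]
  exact mul_mem (inv_mem (Wp_le hw : (w : P) ∈ pCore 2 P)) hv

theorem W_sup {a : ↥(d.T0.subgroupOf TT)} (X : Subgroup P) (hX : X ≤ d.T0)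
    (h : Wp ≤ X ⊔ (Wp ⊓ centralizer {jj d a})) :
    (pCore 2 P).comap (jj d) ≤ X.comap (jj d) ⊔ ((pCore 2 P).comap (jj d) ⊓ centralizer {a}) := by
  intro v hv
  obtain ⟨w, hw, z, hz, rfl⟩ := exists_wz d hξ s v hv
  have h1 : Wp ⊓ centralizer {jj d a} ≤ (jj d).range := by
    rw [jj_range]
    exact inf_le_left.trans (Wp_le.trans d.Q_le_T0)
  have h2 : X ≤ (jj d).range := by rwa [jj_range]
  have h3 := comap_mono (f := jj d) h
  rw [← comap_sup_eq_of_le_range _ h2 h1] at h3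
  have h4 : (Wp ⊓ centralizer {jj d a}).comap (jj d) ≤ (pCore 2 P).comap (jj d) ⊓ centralizer {a} := by
    intro x hx
    obtain ⟨hx1, hx2⟩ := mem_inf.1 hx
    refine mem_inf.2 ⟨Wp_le hx1, ?_⟩
    rw [mem_centralizer_singleton_iff] at hx2 ⊢
    apply jj_injective d
    rw [map_mul, map_mul]
    exact hx2
  refine mul_mem (sup_le_sup_left h4 _ (h3 hw)) (mem_sup_right (mem_inf.2 ⟨(amb d hξ s).center_le hz, ?_⟩))
  exact mem_centralizer_singleton_iff.2 (mem_center_iff.1 hz a).symm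

theorem side (i : d.J) : Side ((pCore 2 P).comap (jj d)) ((⁅pCore 2 P, d.E i⁆ : Subgroup P).comap (jj d))
    ((d.A i).comap (jj d)) ((d.B i).comap (jj d)) ((centralizer (d.E i : Set P)).comap (jj d)) d.q := by
  have hA := amb d hξ s
  have hQn : (pCore 2 P).Normal := pc_normal (P := P)
  have hWQ : ⁅pCore 2 P, d.E i⁆ ≤ pCore 2 P := Subgroup.commutator_le_left _ _
  have hAT : d.A i ≤ d.T0 := by rw [← d.AB i]; exact le_sup_left
  have hBT : d.B i ≤ d.T0 := by rw [← d.AB i]; exact le_sup_right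
  have haa : ∀ a ∈ (d.A i).comap (jj d), a ∉ (pCore 2 P).comap (jj d) →
      Wp ≤ ⁅pCore 2 P, d.E i⁆ ⊔ (Wp ⊓ centralizer {jj d a}) ∧ (Wp ⊓ centralizer {jj d a}).relIndex Wp = d.q := by
    intro a ha haV
    have := d.Aa i (jj d a) ha haV
    rwa [d.hW] at this
  exact
    { WV := comap_mono hWQ
      VA := comap_mono (d.QA i)
      VB := comap_mono (d.QB i)
      AB := by
        rw [comap_sup_eq_of_le_range _ (by rwa [jj_range]) (by rwa [jj_range]), d.AB, eq_top_iff]
        intro x _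
        exact x.2
      Ai := by rw [jj_relIndex d hAT, d.Acard]
      Bi := by rw [index_comap, jj_range, d.Bcard]
      comm := fun w hw b hb => jj_injective d (d.WB i _ hw _ hb)
      EB := by
        intro v hv b hb
        obtain ⟨w, hw, z, hz, rfl⟩ := exists_wz d hξ s v hv
        rw [hA.mul_left, comm_one_iff.2 (mem_center_iff.1 hz b).symm, mul_one]
        show jj d ⁅w, b⁆ ∈ centralizer (d.E i : Set P)
        rw [map_commutatorElement]
        refine mem_centralizer_iff.2 fun e he => d.EB i _ ?_ _ hb e he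
        rw [d.hW]
        exact hw
      Aa := fun a ha haV => W_sup d hξ s _ (hWQ.trans d.Q_le_T0) (haa a ha haV).1
      Aq := by
        intro a ha haV
        have hn : ((pCore 2 P).comap (jj d) ⊓ centralizer {a}).Normal :=
          hA.normal_of_le (le_inf hA.center_le fun z hz =>
            mem_centralizer_singleton_iff.2 (mem_center_iff.1 hz a).symm)
        have h1 : (pCore 2 P).comap (jj d) = (Wp).comap (jj d) ⊔ ((pCore 2 P).comap (jj d) ⊓ centralizer {a}) := by
          apply le_antisymm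
          · exact W_sup d hξ s _ (Wp_le.trans d.Q_le_T0) le_sup_left
          · exact sup_le (comap_mono Wp_le) inf_le_left
        have h2 : ((pCore 2 P).comap (jj d) ⊓ centralizer {a}).relIndex ((pCore 2 P).comap (jj d)) =
            ((pCore 2 P).comap (jj d) ⊓ centralizer {a}).relIndex ((Wp).comap (jj d)) := by
          have h3 : ((pCore 2 P).comap (jj d) ⊓ centralizer {a}).relIndex
              ((Wp).comap (jj d) ⊔ ((pCore 2 P).comap (jj d) ⊓ centralizer {a})) =
              ((pCore 2 P).comap (jj d) ⊓ centralizer {a}).relIndex ((Wp).comap (jj d)) := relIndex_sup_right _ _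
          rwa [← h1] at h3
        rw [h2, ← (haa a ha haV).2, ← jj_relIndex d (Wp_le.trans d.Q_le_T0), ← inf_relIndex_right]
        congr 1
        ext x
        constructor
        · intro hx
          obtain ⟨hx1, hx2⟩ := mem_inf.1 hx
          refine mem_inf.2 ⟨hx2, ?_⟩
          have hx3 := mem_centralizer_singleton_iff.1 (mem_inf.1 hx1).2
          rw [mem_centralizer_singleton_iff]
          rw [← map_mul, hx3, map_mul]
        · intro hx
          obtain ⟨hx1, hx2⟩ := mem_inf.1 hx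
          refine mem_inf.2 ⟨mem_inf.2 ⟨Wp_le hx1, ?_⟩, hx1⟩
          rw [mem_centralizer_singleton_iff] at hx2 ⊢
          apply jj_injective d
          rw [map_mul, map_mul]
          exact hx2
      wa := by
        intro w hw hwz a ha haV hc
        refine d.wa i _ hw ?_ _ ha haV ?_
        · intro hcc
          apply hwz
          rw [mem_center_iff]
          intro g
          apply jj_injective d
          rw [map_mul, map_mul]
          exact mem_centralizer_iff.1 hcc _ g.2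
        · rw [← map_commutatorElement]
          exact hc }

theorem exists_pair (i : d.J) : ∃ k : d.J, ∃ w ∈ (⁅pCore 2 P, d.E i⁆ : Subgroup P).comap (jj d),
    ∃ w' ∈ (⁅pCore 2 P, d.E k⁆ : Subgroup P).comap (jj d), ⁅w, xi0 d ξ (swap_facts d hξ s).2 w'⁆ ≠ 1 := by
  by_contra hcon
  push Not at hcon
  have hA := amb d hξ s
  have hS := side d hξ s i
  have hQn : (pCore 2 P).Normal := pc_normal (P := P)
  have hcen : ∀ w ∈ (⁅pCore 2 P, d.E i⁆ : Subgroup P).comap (jj d), w ∈ center ↥(d.T0.subgroupOf TT) := by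
    intro w hw
    set X : Subgroup ↥(d.T0.subgroupOf TT) := (centralizer {w}).comap (xi0 d ξ (swap_facts d hξ s).2).toMonoidHom with hX
    have hXz : center ↥(d.T0.subgroupOf TT) ≤ X := by
      intro z hz
      show xi0 d ξ (swap_facts d hξ s).2 z ∈ centralizer {w}
      rw [mem_centralizer_singleton_iff]
      set φ := xi0 d ξ (swap_facts d hξ s).2
      have h1 := mem_center_iff.1 hz (φ.symm w)
      have h2 := congrArg φ h1
      rw [map_mul, map_mul, φ.apply_symm_apply] at h2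
      exact h2.symm
    have h1 : Wp ≤ X.map (jj d) := by
      rw [← d.hW]
      refine d.Wsup.trans (sup_le ?_ (iSup_le fun k => ?_))
      · intro x hx
        obtain ⟨hx1, hx2⟩ := mem_inf.1 hx
        have hxT : x ∈ d.T0 := d.Q_le_T0 (d.W_le hx1)
        refine ⟨⟨⟨x, d.T0_le hxT⟩, hxT⟩, hXz ?_, rfl⟩
        rw [mem_center_iff]
        intro g
        apply jj_injective d
        exact mem_centralizer_iff.1 hx2 _ g.2
      · intro x hx
        have hxT : x ∈ d.T0 := d.Q_le_T0 (Subgroup.commutator_le_left _ _ hx)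
        refine ⟨⟨⟨x, d.T0_le hxT⟩, hxT⟩, ?_, rfl⟩
        show xi0 d ξ (swap_facts d hξ s).2 _ ∈ centralizer {w}
        rw [mem_centralizer_singleton_iff]
        exact (comm_one_iff.1 (hcon k w hw _ hx)).symm
    have h2 : (pCore 2 P).comap (jj d) ≤ X := by
      intro v hv
      obtain ⟨w', hw', z, hz, rfl⟩ := exists_wz d hξ s v hv
      refine mul_mem ?_ (hXz hz)
      obtain ⟨x, hx, hxw⟩ := h1 hw'
      rwa [← jj_injective d hxw]
    rw [hA.center_eq]
    refine mem_inf.2 ⟨hS.WV hw, ?_⟩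
    apply hA.cen'
    rintro _ ⟨v, hv, rfl⟩
    exact mem_centralizer_singleton_iff.1 (h2 hv)
  obtain ⟨a, ha, haV⟩ : ∃ a ∈ (d.A i).comap (jj d), a ∉ (pCore 2 P).comap (jj d) := by
    by_contra hcon'
    push Not at hcon'
    have h1 := hS.Ai
    rw [relIndex_eq_one.2 hcon'] at h1
    have := d.q_ge
    omega
  have h1 := hS.Aq a ha haV
  have h2 : (pCore 2 P).comap (jj d) ≤ (pCore 2 P).comap (jj d) ⊓ centralizer {a} :=
    (hS.Aa a ha haV).trans (sup_le (fun w hw => mem_inf.2 ⟨hS.WV hw,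
      mem_centralizer_singleton_iff.2 (mem_center_iff.1 (hcen w hw) a).symm⟩) le_rfl)
  rw [relIndex_eq_one.2 h2] at h1
  have := d.q_ge
  omega

end Main

/-- **T7b** -/
theorem stTwoDir : StTwoDir.{u} := by
  intro P _ _ T d ξ hξ s hB
  obtain ⟨i⟩ := d.Jne
  obtain ⟨k, w, hw, w', hw', hne⟩ := exists_pair d hξ s i
  have hQn : (pCore 2 P).Normal := pc_normal (P := P)
  set φ := xi0 d ξ (swap_facts d hξ s).2 with hφ
  have hBi : (d.B i).comap (jj d) ≠ (pCore 2 P).comap (jj d) := by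
    intro h
    apply hB i
    have h1 := congrArg (Subgroup.map (jj d)) h
    rw [map_comap_eq, map_comap_eq, jj_range, inf_eq_right.2 d.Q_le_T0, inf_eq_right.2
      (by rw [← d.AB i]; exact le_sup_right)] at h1
    exact h1
  obtain ⟨⟨u, hu1, huV, ⟨u', hu', hφu⟩, huC, ⟨u'', hu'', hφu'⟩⟩, hc, hc'⟩ :=
    two_sides (amb d hξ s) (side d hξ s i) ((side d hξ s k).map φ) hw ⟨w', hw', rfl⟩ hne hBi
  have huu : u' = u'' := φ.injective (hφu.trans hφu'.symm)
  have hφu2 : ξ (u'' : ↥(T : Subgroup P)) = u := congrArg Subtype.val hφu'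
  have hinv : ∀ x y : ↥(T : Subgroup P), ξ x = y → ξ⁻¹ y = x := by
    rintro x _ rfl
    exact MulAut.inv_apply_self _ _ _
  refine ⟨d.E i, d.E k, zpowers (u : ↥(T : Subgroup P)), ?_, ?_, ?_, ?_, ?_, d.irr i, d.irr k, w, w', hw, hw', ?_, ?_⟩
  · rw [Ne, zpowers_eq_bot]
    exact fun h => hu1 (Subtype.ext h)
  · rw [zpowers_le]
    exact huV
  · rw [zpowers_le]
    refine ⟨(u'' : ↥(T : Subgroup P)), ?_, hφu2⟩
    rw [← huu]
    exact hu'
  · have h1 : zpowers (u : ↥(T : Subgroup P)) ≤ (centralizer (d.E i : Set P)).comap (T : Subgroup P).subtype := by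
      rw [zpowers_le]
      exact huC
    intro x hx e he
    exact mem_centralizer_iff.1 (h1 hx) e he
  · have h1 : zpowers (u : ↥(T : Subgroup P)) ≤
        ((centralizer (d.E k : Set P)).comap (T : Subgroup P).subtype).comap (ξ⁻¹ : MulAut ↥(T : Subgroup P)).toMonoidHom := by
      rw [zpowers_le]
      show ((ξ⁻¹ (u : ↥(T : Subgroup P)) : ↥(T : Subgroup P)) : P) ∈ centralizer (d.E k : Set P)
      rw [hinv _ _ hφu2]
      exact hu''
    intro x hx e he
    exact mem_centralizer_iff.1 (h1 hx) e he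
  · intro h
    exact hc h
  · intro h
    apply hc'
    refine ⟨φ.symm ⁅w, φ w'⁆, ?_, φ.apply_symm_apply _⟩
    have h1 : ξ ((φ.symm ⁅w, φ w'⁆ : ↥(d.T0.subgroupOf (T : Subgroup P))) : ↥(T : Subgroup P)) =
        ((⁅w, φ w'⁆ : ↥(d.T0.subgroupOf (T : Subgroup P))) : ↥(T : Subgroup P)) :=
      congrArg Subtype.val (φ.apply_symm_apply ⁅w, φ w'⁆)
    have h2 := hinv _ _ h1
    show (((φ.symm ⁅w, φ w'⁆ : ↥(d.T0.subgroupOf (T : Subgroup P))) : ↥(T : Subgroup P)) : P) ∈
      centralizer (d.E k : Set P)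
    rw [← h2]
    exact h

end Cfsg.Agent.H270.HM
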